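import Cfsg.Agent.Lib.LeechCount.U6.Elts

/-!
The stabiliser of the two vectors has order 9196830720 and is generated by the four elements: a
stabiliser chain on the 891 vectors gives the lower bound, the orbit of length 4600 the upper one.
-/

set_option autoImplicit false

namespace Cfsg.Agent.LeechCount.U6

open Cfsg Cfsg.Agent.Leech Cfsg.Agent.Golay24 Cfsg.Agent.LeechCount.Co3Rank MulAction

noncomputable section

attribute [local irreducible] normFS dotFS

/-- Fixing the vectors of the listed indices. -/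
def fixSub (B : List ℕ) : Subgroup ↥Co0 where
  carrier := {g | ∀ b ∈ B, b < 891 → ap g (ptU b) = ptU b}
  one_mem' := fun b _ _ => ap_one (ptU b)
  mul_mem' := fun {g h} hg hh b hb hlt => by
    rw [ap_mul _ _ (ptU_mem hlt), hh b hb hlt, hg b hb hlt]
  inv_mem' := fun {g} hg b hb hlt => by
    conv_lhs => rw [← hg b hb hlt]
    rw [ap_inv_ap _ (ptU_mem hlt)]

theorem mem_fixSub {B : List ℕ} {g : ↥Co0} :
    g ∈ fixSub B ↔ ∀ b ∈ B, b < 891 → ap g (ptU b) = ptU b := Iff.rfl

/-- Reached by an element of the subgroup. -/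
def RU (K : Subgroup ↥Co0) (x y : Vec) : Prop := ∃ g ∈ K, ap g x = y

theorem acts_inv {g : ↥Co0} {f f' : ℕ → ℕ} (hg : Acts g f)
    (h : ∀ i < 891, f' i < 891 ∧ f (f' i) = i) : Acts g⁻¹ f' := fun i hi => by
  obtain ⟨hlt, hf⟩ := h i hi
  refine ⟨hlt, ?_⟩
  have e := (hg _ hlt).2
  rw [hf] at e
  conv_lhs => rw [← e]
  rw [ap_inv_ap _ (ptU_mem hlt)]

/-- A word in the generators and their inverses. -/
def levelFn (L : Lvl) (w : List ℕ) (i : ℕ) : ℕ :=
  w.foldr (fun k t => lk ((L.gens ++ L.invs).getD k 0) t) i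

/-- The inverse tables are inverse. -/
def invB (L : Lvl) : Bool :=
  (L.invs.length == L.gens.length) && (List.range L.gens.length).all fun k =>
    (List.range 891).all fun i => Nat.blt (lk (L.invs.getD k 0) i) 891 &&
      (lk (L.gens.getD k 0) (lk (L.invs.getD k 0) i) == i)

/-- The orbit is reached by the generators. -/
def orbB (gens : List ℕ) (orbit : List ℕ) : ℕ → List (ℕ × ℕ) → Bool
  | _, [] => true
  | k, (j, g) :: rest => Nat.blt j k && Nat.blt g gens.length &&
      (lk (gens.getD g 0) (orbit.getD j 0) == orbit.getD k 0) && orbB gens orbit (k + 1) rest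

/-- One level. -/
def lvlB (B : List ℕ) (L : Lvl) (next : List ℕ) : Bool :=
  Nat.blt L.base 891 && invB L && (L.orbit.getD 0 0 == L.base) && (L.orbit.length == L.tree.length + 1) &&
    orbB L.gens L.orbit 1 L.tree && posB L.pos 0 L.orbit && (L.orbit.all fun i => Nat.blt i 891) &&
    (L.nextW.length == next.length) && (List.range next.length).all fun k =>
      ((L.nextW.getD k []).all fun m => Nat.blt m (L.gens.length + L.gens.length)) &&
        ((List.range 891).all fun i => levelFn L (L.nextW.getD k []) i == lk (next.getD k 0) i) &&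
        (B ++ [L.base]).all fun b => lk (next.getD k 0) b == b

/-- The generators of the first level. -/
def firstGens : List Lvl → List ℕ
  | [] => []
  | L :: _ => L.gens

/-- The chain. -/
def chainB : List ℕ → List Lvl → Bool
  | _, [] => true
  | B, L :: rest => lvlB B L (firstGens rest) && chainB (B ++ [L.base]) rest

/-- The product of the orbit lengths. -/
def chainProd : List Lvl → ℕ
  | [] => 1
  | L :: rest => L.orbit.length * chainProd rest

theorem orb_reach {K : Subgroup ↥Co0} {gens orbit : List ℕ} (hg : ∀ T ∈ gens, ∃ g ∈ K, Acts g (lk T))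
    (h0 : orbit.getD 0 0 < 891) : ∀ (cert : List (ℕ × ℕ)) (k : ℕ), orbB gens orbit k cert = true →
      (∀ i < k, orbit.getD i 0 < 891 ∧ RU K (ptU (orbit.getD 0 0)) (ptU (orbit.getD i 0))) →
      ∀ i < k + cert.length, orbit.getD i 0 < 891 ∧ RU K (ptU (orbit.getD 0 0)) (ptU (orbit.getD i 0))
  | [], k, _, hk, i, hi => hk i (by simpa using hi)
  | (j, g) :: rest, k, h, hk, i, hi => by
    simp only [orbB, Bool.and_eq_true, Nat.blt_eq, beq_iff_eq] at h
    obtain ⟨⟨⟨hj, hgl⟩, he⟩, hr⟩ := h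
    obtain ⟨x, hx, hxa⟩ := hg (gens.getD g 0) (by rw [List.getD_eq_getElem _ _ hgl]; exact List.getElem_mem _)
    refine orb_reach hg h0 rest (k + 1) hr (fun i' hi' => ?_) i (by simp only [List.length_cons] at hi; omega)
    rcases Nat.lt_succ_iff_lt_or_eq.1 hi' with h' | rfl
    · exact hk i' h'
    obtain ⟨hjl, y, hy, hya⟩ := hk j hj
    obtain ⟨hl, hap⟩ := hxa _ hjl
    rw [he] at hl hap
    exact ⟨hl, x * y, K.mul_mem hx hy, by rw [ap_mul _ _ (ptU_mem h0), hya, hap]⟩

theorem levelFn_acts {K : Subgroup ↥Co0} {L : Lvl} (hg : ∀ T ∈ L.gens, ∃ g ∈ K, Acts g (lk T))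
    (hinv : invB L = true) : ∀ w : List ℕ, (∀ m ∈ w, m < L.gens.length + L.gens.length) →
      ∃ g ∈ K, Acts g (levelFn L w)
  | [], _ => ⟨1, K.one_mem, Acts.one⟩
  | m :: w, hm => by
    obtain ⟨g, gK, ga⟩ := levelFn_acts hg hinv w fun x hx => hm x (List.mem_cons_of_mem _ hx)
    have hml := hm m List.mem_cons_self
    simp only [invB, Bool.and_eq_true, beq_iff_eq, List.all_eq_true, List.mem_range, Nat.blt_eq] at hinv
    obtain ⟨hlen, hi⟩ := hinv
    by_cases hlt : m < L.gens.length
    · obtain ⟨x, xK, xa⟩ := hg (L.gens.getD m 0) (by rw [List.getD_eq_getElem _ _ hlt]; exact List.getElem_mem _)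
      refine ⟨x * g, K.mul_mem xK gK, (xa.mul ga).congr fun i _ => ?_⟩
      show lk ((L.gens ++ L.invs).getD m 0) (levelFn L w i) = _
      rw [List.getD_append _ _ _ _ hlt]
    · obtain ⟨x, xK, xa⟩ := hg (L.gens.getD (m - L.gens.length) 0)
        (by rw [List.getD_eq_getElem _ _ (show m - L.gens.length < L.gens.length by omega)]; exact List.getElem_mem _)
      refine ⟨x⁻¹ * g, K.mul_mem (K.inv_mem xK) gK,
        ((acts_inv xa fun i hi' => hi _ (by omega) i hi').mul ga).congr fun i _ => ?_⟩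
      show lk ((L.gens ++ L.invs).getD m 0) (levelFn L w i) = _
      rw [List.getD_append_right _ _ _ _ (Nat.not_lt.1 hlt)]

theorem count_le {K S : Subgroup ↥Co0} (hS : S ≤ K) {x : Vec} (hx : x ∈ leechLattice)
    (hfix : ∀ s ∈ S, ap s x = x) (F : Finset Vec) (hF : ∀ y ∈ F, RU K x y) :
    F.card * Nat.card ↥S ≤ Nat.card ↥K := by
  classical
  choose g hgK hgx using fun y : ↥F => hF y.1 y.2
  let φ : ↥F × ↥S → ↥K := fun q => ⟨g q.1 * q.2.1, K.mul_mem (hgK q.1) (hS q.2.2)⟩
  have hφ : Function.Injective φ := by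
    rintro ⟨y, s⟩ ⟨z, t⟩ h
    have h1 : g y * s.1 = g z * t.1 := congrArg Subtype.val h
    have hyz : y.1 = z.1 := by
      have := congrArg (fun u : ↥Co0 => ap u x) h1
      simp only [ap_mul _ _ hx, hfix _ s.2, hfix _ t.2, hgx] at this
      exact this
    obtain rfl : y = z := Subtype.ext hyz
    exact Prod.ext rfl (Subtype.ext (mul_left_cancel h1))
  have := Nat.card_le_card_of_injective φ hφ
  rwa [Nat.card_prod, Nat.card_eq_finsetCard] at this

theorem chain_bound : ∀ (lv : List Lvl) (B : List ℕ) (K : Subgroup ↥Co0), chainB B lv = true →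
    (∀ T ∈ firstGens lv, ∃ g ∈ K ⊓ fixSub B, Acts g (lk T)) →
    chainProd lv ≤ Nat.card ↥(K ⊓ fixSub B)
  | [], _, _, _, _ => Nat.card_pos
  | L :: rest, B, K, h, hg => by
    classical
    simp only [chainB, lvlB, Bool.and_eq_true, Nat.blt_eq, beq_iff_eq, List.all_eq_true, List.mem_range] at h
    obtain ⟨⟨⟨⟨⟨⟨⟨⟨⟨hb, hinv⟩, h0⟩, hlen⟩, horb⟩, hpos⟩, hlt⟩, hnl⟩, hnext⟩, hrest⟩ := h
    have hreach := orb_reach (K := K ⊓ fixSub B) hg (by rw [h0]; exact hb) L.tree 1 horb
      fun i hi => by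
        obtain rfl : i = 0 := (by omega)
        exact ⟨by rw [h0]; exact hb, 1, Subgroup.one_mem _, ap_one _⟩
    have ih := chain_bound rest (B ++ [L.base]) K hrest fun T hT => by
      obtain ⟨k, hk, rfl⟩ := List.mem_iff_getElem.1 hT
      obtain ⟨⟨hw1, hw2⟩, hfix⟩ := hnext k hk
      obtain ⟨g, gK, ga⟩ := levelFn_acts hg hinv _ hw1
      have ga' : Acts g (lk ((firstGens rest).getD k 0)) := ga.congr fun i hi => (hw2 i hi).symm
      rw [List.getD_eq_getElem _ _ hk] at ga' hfix
      refine ⟨g, ⟨gK.1, fun b hbm hbl => ?_⟩, ga'⟩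
      have e := (ga' b hbl).2
      rw [hfix b hbm] at e
      exact e
    let F : Finset Vec := L.orbit.toFinset.image ptU
    have hF : F.card = L.orbit.length := by
      rw [Finset.card_image_of_injOn, List.toFinset_card_of_nodup (posB_nodup hpos)]
      intro a ha b' hb' e
      exact ptU_inj (hlt a (List.mem_toFinset.1 ha)) (hlt b' (List.mem_toFinset.1 hb')) e
    have hcount := count_le (K := K ⊓ fixSub B) (S := K ⊓ fixSub (B ++ [L.base]))
      (inf_le_inf_left K fun g hg' b hbm => hg' b (List.mem_append_left _ hbm)) (ptU_mem hb)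
      (fun s hs => hs.2 L.base (by simp) hb) F fun y hy => by
        obtain ⟨a, ha, rfl⟩ := Finset.mem_image.1 hy
        obtain ⟨i, hi, rfl⟩ := List.mem_iff_getElem.1 (List.mem_toFinset.1 ha)
        have := (hreach i (by omega)).2
        rwa [h0, List.getD_eq_getElem _ _ hi] at this
    rw [hF] at hcount
    exact (Nat.mul_le_mul_left _ ih).trans hcount

/-- The subgroup the four elements generate. -/
def HU : Subgroup ↥Co0 := Subgroup.closure (Set.range gEl)

theorem chain_ok : chainB [] chain = true := by decide +kernel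

theorem chain_prod : chainProd chain = 9196830720 := by decide +kernel

theorem card_HU_ge : 9196830720 ≤ Nat.card ↥HU := by
  have h := chain_bound chain [] HU chain_ok fun T hT => by
    have hT' : T ∈ [gT1, gT2, gT3, gT4] := hT
    obtain ⟨k, hk, rfl⟩ := List.mem_iff_getElem.1 hT'
    refine ⟨gEl ⟨k, hk⟩, ⟨Subgroup.subset_closure ⟨_, rfl⟩, fun b hb => absurd hb List.not_mem_nil⟩, ?_⟩
    rw [← List.getD_eq_getElem _ 0 hk, gTab_getD ⟨k, hk⟩]
    exact acts_gEl _
  rw [chain_prod] at h
  exact h.trans (Subgroup.card_le_of_le inf_le_left)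

theorem card_pair {v w : ↥leechLattice} (hv : sqNorm (v : Vec) = 32) (hw : sqNorm (w : Vec) = 32)
    (hd : dotInt (v : Vec) w = -16) :
    4600 * Nat.card ↥(stabilizer ↥Co0 v ⊓ stabilizer ↥Co0 w) = 42305421312000 := by
  have horb : (orbit ↥(stabilizer ↥Co0 v) w).ncard = 4600 := by
    rw [← (dot_counts v.2 hv).1, ← Set.ncard_image_of_injective _ Subtype.val_injective, ← Set.ncard_coe_finset]
    congr 1
    ext x
    simp only [Set.mem_image, Finset.mem_coe, mem_dotFS]
    constructor
    · rintro ⟨y, ⟨g, rfl⟩, rfl⟩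
      have hg : (g : ↥Co0) • v = v := g.2
      refine ⟨⟨(g • w).2, ?_⟩, ?_⟩
      · show sqNorm (((g : ↥Co0) • w : ↥leechLattice) : Vec) = 32
        rw [co0_smul_norm, hw]
      · show dotInt (v : Vec) (((g : ↥Co0) • w : ↥leechLattice) : Vec) = -16
        rw [dot_of_fix _ hg, hd]
    · rintro ⟨⟨hx, hxn⟩, hxd⟩
      obtain ⟨g, g1, g2⟩ := coPair_subtype (v := v) (w := w) (v' := v) (w' := ⟨x, hx⟩)
        (coPair_sixteen v.2 hv w.2 hw hd v.2 hv hx hxn hxd)
      exact ⟨⟨x, hx⟩, ⟨⟨g, g1⟩, g2⟩, rfl⟩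
  have h := card_inf_stab (stabilizer ↥Co0 v) w _ horb
  rwa [card_stab32 v hv] at h

/-- The four elements generate the stabiliser. -/
theorem HU_eq : HU = GU ∧ Nat.card ↥GU = 9196830720 := by
  have a := card_HU_ge
  have b := card_pair (v := V0) (w := W0) V0W0_facts.1 V0W0_facts.2.1 V0W0_facts.2.2
  have hle : HU ≤ GU := (Subgroup.closure_le _).2 (by rintro _ ⟨n, rfl⟩; exact gEl_mem n)
  have c := Subgroup.card_le_of_le hle
  have d : Nat.card ↥GU = 9196830720 := by
    change 4600 * Nat.card ↥GU = _ at b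
    omega
  exact ⟨Subgroup.eq_of_le_of_card_ge hle (by omega), d⟩

end

end Cfsg.Agent.LeechCount.U6
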