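import Cfsg.Agent.Lib.LeechCount.U6.Data
import Cfsg.Agent.Lib.LeechCount.Co3Out.Reach

/-!
Four automorphisms fixing two minimal vectors at product -16, and their action on 891 further
minimal vectors as packed tables.
-/

set_option autoImplicit false

namespace Cfsg.Agent.LeechCount.U6

open Cfsg Cfsg.Agent.Leech Cfsg.Agent.Golay24 Cfsg.Agent.LeechCount.Co3Rank MulAction
open Cfsg.Agent.LeechCount.Co3Out (lstN vecOf_lstN pL pL_vecOf sgnL xiF xiF_eq xi_vecOf ap_perm_inv)

noncomputable section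

attribute [local irreducible] normFS dotFS

theorem sxLab_ok : sxOk sxLab := by unfold sxOk; decide +kernel

theorem perm_ok : inM24 permA = true ∧ inM24 permB = true ∧ inM24 permP = true ∧
    (∀ i, appPt permA (appPt permAInv i) = i) ∧ (∀ i, appPt permB (appPt permBInv i) = i) ∧
    (∀ i, appPt permP (appPt permPInv i) = i) ∧
    (∀ k < 24, app permAInv k < 24) ∧ (∀ k < 24, app permBInv k < 24) ∧ ∀ k < 24, app permPInv k < 24 := by
  decide +kernel

theorem sgn_inC : Leech.InC (Golay24.setOf sgnSet) := mem_supports_iff_inCode.2 (by decide +kernel)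

/-- The generators. -/
def gEl : Fin 4 → ↥Co0 :=
  ![permCo (toPerm permA) (toPerm_mem_M24 perm_ok.1),
    permCo (toPerm permB) (toPerm_mem_M24 perm_ok.2.1),
    signCo (Golay24.setOf sgnSet) sgn_inC,
    permCo (toPerm permP) (toPerm_mem_M24 perm_ok.2.2.1) * (sxOfList sxLab sxLab_ok).xiCo]

/-- The sextet labels as numbers. -/
def sxLabN : List ℕ := sxLab.map Fin.val

/-- The generators on lists. -/
def gLst : Fin 4 → List ℤ → List ℤ :=
  ![pL permAInv, pL permBInv, sgnL sgnSet, fun l => pL permPInv (xiF sxLabN l)]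

theorem sxLab_length : sxLab.length = 24 := by decide +kernel

theorem ap_gEl (n : Fin 4) {l : List ℤ} (hlen : l.length = 24) (hl : vecOf l ∈ leechLattice) :
    ap (gEl n) (vecOf l) = vecOf (gLst n l) := by
  obtain ⟨hA, hB, hP, iA, iB, iP, lA, lB, lP⟩ := perm_ok
  fin_cases n
  · show ap (permCo (toPerm permA) (toPerm_mem_M24 perm_ok.1)) (vecOf l) = vecOf (pL permAInv l)
    rw [ap_perm_inv hA iA hl, pL_vecOf lA]
  · show ap (permCo (toPerm permB) (toPerm_mem_M24 perm_ok.2.1)) (vecOf l) = vecOf (pL permBInv l)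
    rw [ap_perm_inv hB iB hl, pL_vecOf lB]
  · show ap (signCo (Golay24.setOf sgnSet) sgn_inC) (vecOf l) = vecOf (sgnL sgnSet l)
    funext i
    rw [ap_signCo sgn_inC hl, sgnL, vecOf_range]
    simp only [mem_setOf, vecOf]
  · show ap (permCo (toPerm permP) (toPerm_mem_M24 perm_ok.2.2.1) * (sxOfList sxLab sxLab_ok).xiCo) (vecOf l) =
      vecOf (pL permPInv (xiF sxLabN l))
    have h1 : (sxOfList sxLab sxLab_ok).xi (vecOf l) ∈ leechLattice := (sxOfList sxLab sxLab_ok).xi_mem hl
    rw [ap_mul _ _ hl, Sx.ap_xiCo _ hl, ap_perm_inv hP iP h1, xi_vecOf, pL_vecOf lP, sxLabN,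
      xiF_eq sxLab_length hlen]

/-- The tables of the generators. -/
def gTab : Fin 4 → ℕ := ![gT1, gT2, gT3, gT4]

/-- The vector of an index. -/
def ptU (i : ℕ) : Vec := vecN (getSlot 96 u6Tab i)

/-- Table lookup. -/
def lk (T i : ℕ) : ℕ := getSlot 10 T i

/-- One table agrees with its generator. -/
def tblB (n : Fin 4) : Bool := (List.range 891).all fun i => Nat.blt (lk (gTab n) i) 891 &&
  (gLst n (lstN (getSlot 96 u6Tab i)) == lstN (getSlot 96 u6Tab (lk (gTab n) i)))

theorem tbl_ok0 : tblB 0 = true := by decide +kernel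

theorem tbl_ok1 : tblB 1 = true := by decide +kernel

theorem tbl_ok2 : tblB 2 = true := by decide +kernel

theorem tbl_ok3 : tblB 3 = true := by decide +kernel

theorem tbl_ok : ∀ n, tblB n = true
  | 0 => tbl_ok0
  | 1 => tbl_ok1
  | 2 => tbl_ok2
  | 3 => tbl_ok3

theorem lstN_length (c : ℕ) : (lstN c).length = 24 := by simp [lstN]

theorem gen_step (n : Fin 4) {i : ℕ} (hi : i < 891) (hm : ptU i ∈ leechLattice) :
    lk (gTab n) i < 891 ∧ ap (gEl n) (ptU i) = ptU (lk (gTab n) i) := by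
  have h := tbl_ok n
  simp only [tblB, List.all_eq_true, List.mem_range, Bool.and_eq_true, Nat.blt_eq, beq_iff_eq] at h
  obtain ⟨h1, h2⟩ := h i hi
  refine ⟨h1, ?_⟩
  simp only [ptU] at hm ⊢
  rw [← vecOf_lstN] at hm ⊢
  rw [ap_gEl n (lstN_length _) hm, h2, vecOf_lstN]

/-- An orbit tree in the tables of the generators. -/
def genTreeB : ℕ → List (ℕ × ℕ) → Bool
  | _, [] => true
  | k, (j, g) :: rest => Nat.blt j k && Nat.blt g 4 &&
      (lk ([gT1, gT2, gT3, gT4].getD g 0) j == k) && genTreeB (k + 1) rest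

theorem gTab_getD (n : Fin 4) : [gT1, gT2, gT3, gT4].getD n.val 0 = gTab n := by
  fin_cases n <;> rfl

theorem genTree_mem : ∀ (cert : List (ℕ × ℕ)) (k : ℕ), k + cert.length ≤ 891 → genTreeB k cert = true →
    (∀ i < k, ptU i ∈ leechLattice) → ∀ i < k + cert.length, ptU i ∈ leechLattice
  | [], k, _, _, hk, i, hi => hk i (by simpa using hi)
  | (j, g) :: rest, k, hle, h, hk, i, hi => by
    simp only [genTreeB, Bool.and_eq_true, Nat.blt_eq, beq_iff_eq] at h
    obtain ⟨⟨⟨hj, hg⟩, he⟩, hr⟩ := h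
    simp only [List.length_cons] at hle hi
    refine genTree_mem rest (k + 1) (by omega) hr (fun i' hi' => ?_) i (by omega)
    rcases Nat.lt_succ_iff_lt_or_eq.1 hi' with h' | rfl
    · exact hk i' h'
    obtain ⟨-, hap⟩ := gen_step ⟨g, hg⟩ (by omega : j < 891) (hk j hj)
    rw [← gTab_getD ⟨g, hg⟩, he] at hap
    exact hap ▸ ap_mem _ (hk j hj)

theorem tree_ok : genTreeB 1 u6Tree = true ∧ u6Tree.length = 890 := by decide +kernel

theorem pt_zero_mem : ptU 0 ∈ leechLattice := vecN_mem 0 (by decide +kernel)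

theorem ptU_mem {i : ℕ} (hi : i < 891) : ptU i ∈ leechLattice :=
  genTree_mem u6Tree 1 (by rw [tree_ok.2]) tree_ok.1
    (fun k hk => by obtain rfl : k = 0 := (by omega); exact pt_zero_mem) i (by rw [tree_ok.2]; omega)

/-- The element moves the indexed vectors by the given function. -/
def Acts (g : ↥Co0) (f : ℕ → ℕ) : Prop := ∀ i < 891, f i < 891 ∧ ap g (ptU i) = ptU (f i)

theorem Acts.one : Acts 1 id := fun i hi => ⟨hi, ap_one (ptU i)⟩

theorem Acts.mul {g h : ↥Co0} {f k : ℕ → ℕ} (hg : Acts g f) (hh : Acts h k) :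
    Acts (g * h) fun i => f (k i) := fun i hi =>
  ⟨(hg _ (hh i hi).1).1, by rw [ap_mul _ _ (ptU_mem hi), (hh i hi).2, (hg _ (hh i hi).1).2]⟩

theorem Acts.congr {g : ↥Co0} {f k : ℕ → ℕ} (hg : Acts g f) (h : ∀ i < 891, k i = f i) : Acts g k :=
  fun i hi => by rw [h i hi]; exact hg i hi

theorem acts_gEl (n : Fin 4) : Acts (gEl n) (lk (gTab n)) := fun i hi => gen_step n hi (ptU_mem hi)

/-- Positions in a list. -/
def posB (P : ℕ) : ℕ → List ℕ → Bool
  | _, [] => true
  | k, a :: l => (lk P a == k) && posB P (k + 1) l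

theorem posB_spec {P : ℕ} : ∀ {l : List ℕ} {k : ℕ}, posB P k l = true →
    ∀ i (h : i < l.length), lk P l[i] = k + i
  | [], _, _, i, h => absurd h (Nat.not_lt_zero i)
  | a :: l, k, hp, i, h => by
    simp only [posB, Bool.and_eq_true, beq_iff_eq] at hp
    cases i with
    | zero => simpa using hp.1
    | succ i =>
      have := posB_spec hp.2 i (by simpa using h)
      rw [List.getElem_cons_succ, this]
      omega

theorem posB_nodup {P : ℕ} {l : List ℕ} {k : ℕ} (h : posB P k l = true) : l.Nodup := by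
  rw [List.nodup_iff_injective_getElem]
  intro a b e
  have ha := posB_spec h a.1 a.2
  have hb := posB_spec h b.1 b.2
  have e' : l[a.1] = l[b.1] := e
  rw [e'] at ha
  exact Fin.ext (by omega)

theorem codes_sorted : sortedB (u6Srt.map fun i => getSlot 96 u6Tab i) = true ∧ posB u6Rank 0 u6Srt = true ∧
    u6Srt.length = 891 ∧ (∀ i ∈ u6Srt, i < 891) := by
  decide +kernel

theorem codes_norm : ((List.range 891).all fun i => normB (getSlot 96 u6Tab i)) = true := by decide +kernel

theorem ptU_inj {i j : ℕ} (hi : i < 891) (hj : j < 891) (h : ptU i = ptU j) : i = j := by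
  have hn := List.all_eq_true.1 codes_norm
  have hc := vecN_injOn (hn i (List.mem_range.2 hi)) (hn j (List.mem_range.2 hj)) h
  obtain ⟨hs, hp, hlen, hlt⟩ := codes_sorted
  have hall : u6Srt.toFinset = Finset.range 891 := Finset.eq_of_subset_of_card_le
    (fun x hx => Finset.mem_range.2 (hlt x (List.mem_toFinset.1 hx)))
    (by rw [List.toFinset_card_of_nodup (posB_nodup hp), hlen, Finset.card_range])
  have hm : ∀ k < 891, k ∈ u6Srt := fun k hk => List.mem_toFinset.1 (hall ▸ Finset.mem_range.2 hk)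
  have hnd : (u6Srt.map fun i => getSlot 96 u6Tab i).Nodup :=
    (sortedB_pairwise hs).imp fun h => Nat.ne_of_lt h
  exact List.inj_on_of_nodup_map hnd (hm i hi) (hm j hj) hc

/-- The first vector. -/
def V0 : ↥leechLattice := ⟨vecN vCode, vecN_mem 0 (by decide +kernel)⟩

/-- The second vector. -/
def W0 : ↥leechLattice := ⟨vecN wCode, vecN_mem 0 (by decide +kernel)⟩

/-- The stabiliser of both. -/
def GU : Subgroup ↥Co0 := stabilizer ↥Co0 V0 ⊓ stabilizer ↥Co0 W0

theorem mem_GU {g : ↥Co0} : g ∈ GU ↔ ap g (vecN vCode) = vecN vCode ∧ ap g (vecN wCode) = vecN wCode :=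
  and_congr (smul_eq_iff_ap g V0 V0) (smul_eq_iff_ap g W0 W0)

theorem fix_ok : ∀ n, gLst n (lstN vCode) = lstN vCode ∧ gLst n (lstN wCode) = lstN wCode := by
  decide +kernel

theorem gEl_mem (n : Fin 4) : gEl n ∈ GU := by
  have hv : vecOf (lstN vCode) ∈ leechLattice := (vecOf_lstN vCode).symm ▸ V0.2
  have hw : vecOf (lstN wCode) ∈ leechLattice := (vecOf_lstN wCode).symm ▸ W0.2
  obtain ⟨h1, h2⟩ := fix_ok n
  exact mem_GU.2 ⟨by rw [← vecOf_lstN, ap_gEl n (lstN_length _) hv, h1],
    by rw [← vecOf_lstN, ap_gEl n (lstN_length _) hw, h2]⟩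

theorem V0W0_facts : sqNorm (vecN vCode) = 32 ∧ sqNorm (vecN wCode) = 32 ∧
    dotInt (vecN vCode) (vecN wCode) = -16 := by
  decide +kernel

end

end Cfsg.Agent.LeechCount.U6
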