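import Cfsg.Agent.Lib.LeechCount.U6.Unitary

/-!
Any pair of minimal vectors at product -16 is carried to the canonical one.
-/

set_option autoImplicit false

namespace Cfsg.Agent.LeechCount.U6

open Cfsg Cfsg.Agent.Leech MulAction

noncomputable section

attribute [local irreducible] normFS dotFS

theorem main (v w : ↥leechLattice) (hv : sqNorm (v : Vec) = 32) (hw : sqNorm (w : Vec) = 32)
    (hd : dotInt (v : Vec) w = -16) (F : Type) [Field F] [Fintype F] (hF : Fintype.card F = 4) :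
    Nonempty (↥(stabilizer ↥Co0 v ⊓ stabilizer ↥Co0 w) ≃* PSU 6 F 2) := by
  obtain ⟨g, gv, gw⟩ := coPair_subtype (v := v) (w := w) (v' := V0) (w' := W0)
    (coPair_sixteen v.2 hv w.2 hw hd V0.2 V0W0_facts.1 W0.2 V0W0_facts.2.1 V0W0_facts.2.2)
  have hmap : (stabilizer ↥Co0 v ⊓ stabilizer ↥Co0 w).map (MulAut.conj g).toMonoidHom = GU := by
    rw [GU, ← gv, ← gw]
    ext a
    simp only [Subgroup.mem_map_equiv, MulAut.conj_symm_apply, Subgroup.mem_inf, mem_stabilizer_iff, mul_smul,
      inv_smul_eq_iff]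
  obtain ⟨φ⟩ := GU_iso F hF
  exact ⟨((MulAut.conj g).subgroupMap _).trans ((MulEquiv.subgroupCongr hmap).trans φ)⟩

end

end Cfsg.Agent.LeechCount.U6
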