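import Cfsg.Agent.Lib.LeechCount.U6.Chain
import Cfsg.Agent.Lib.AutPSU.Centre
import Cfsg.Agent.Lib.LinearGroups.UnitaryOrder
import Mathlib.Algebra.QuadraticAlgebra.Basic
import Mathlib.FieldTheory.Finite.Basic

/-!
The stabiliser permutes 891 vectors as the special unitary group in dimension six over the field
with four elements permutes the totally isotropic planes; hence it is the projective group.
-/

set_option autoImplicit false

namespace Cfsg.Agent.LeechCount.U6

open Cfsg Cfsg.Agent.Leech Cfsg.Agent.Golay24 Cfsg.Agent.LeechCount.Co3Rank MulAction Matrix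

noncomputable section

attribute [local irreducible] normFS dotFS

/-- The field with four elements as a concrete ring. -/
abbrev K4 : Type := QuadraticAlgebra (ZMod 2) 1 1

/-- An element from its code. -/
def toK (x : ℕ) : K4 := ([⟨0, 0⟩, ⟨1, 0⟩, ⟨0, 1⟩, ⟨1, 1⟩] : List K4).getD (x % 4) 0

/-- Sum of codes. -/
def addN (a b : ℕ) : ℕ := Nat.xor (a % 4) (b % 4)

/-- Product of codes. -/
def mulN (a b : ℕ) : ℕ := getSlot 2 mulTab (4 * (a % 4) + b % 4)

theorem toK_tables : ∀ a b : Fin 4, toK (addN a b) = toK a + toK b ∧ toK (mulN a b) = toK a * toK b := by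
  decide +kernel

theorem toK_mod (a : ℕ) : toK (a % 4) = toK a := by simp [toK]

theorem toK_add (a b : ℕ) : toK (addN a b) = toK a + toK b := by
  have h := (toK_tables ⟨a % 4, Nat.mod_lt _ (by norm_num)⟩ ⟨b % 4, Nat.mod_lt _ (by norm_num)⟩).1
  simp only [addN, Nat.mod_mod, toK_mod] at h ⊢
  exact h

theorem toK_mul (a b : ℕ) : toK (mulN a b) = toK a * toK b := by
  have h := (toK_tables ⟨a % 4, Nat.mod_lt _ (by norm_num)⟩ ⟨b % 4, Nat.mod_lt _ (by norm_num)⟩).2
  simp only [mulN, Nat.mod_mod, toK_mod] at h ⊢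
  exact h

theorem toK_inj_fin : ∀ a b : Fin 4, toK a = toK b → a = b := by decide +kernel

theorem toK_inj {a b : ℕ} (h : toK a = toK b) : a % 4 = b % 4 := by
  rw [← toK_mod a, ← toK_mod b] at h
  exact congrArg Fin.val (toK_inj_fin ⟨a % 4, Nat.mod_lt _ (by norm_num)⟩ ⟨b % 4, Nat.mod_lt _ (by norm_num)⟩ h)

/-- Entry of a plane's basis vector. -/
def bN (j k i : ℕ) : ℕ := getSlot 2 (getSlot 12 (Nat.shiftRight (getSlot 48 planeTab j) 9) k) i

/-- A pivot. -/
def pvN (j k : ℕ) : ℕ := getSlot 3 (getSlot 48 planeTab j) k % 6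

/-- The pivot as an index. -/
def pv (j k : ℕ) : Fin 6 := ⟨pvN j k, Nat.mod_lt _ (by norm_num)⟩

/-- The matrices, packed. -/
def mtxN : Fin 4 → ℕ := ![mtx1, mtx2, mtx3, mtx4]

/-- An entry of a matrix. -/
def mN (n : Fin 4) (i j : ℕ) : ℕ := getSlot 2 (getSlot 12 (mtxN n) i) j

/-- An entry of a product. -/
def mvE (n : Fin 4) (f : ℕ → ℕ) (i : ℕ) : ℕ :=
  addN (addN (addN (addN (addN (mulN (mN n i 0) (f 0)) (mulN (mN n i 1) (f 1))) (mulN (mN n i 2) (f 2)))
    (mulN (mN n i 3) (f 3))) (mulN (mN n i 4) (f 4))) (mulN (mN n i 5) (f 5))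

/-- Membership in a plane, by its pivots. -/
def inPlB (j : ℕ) (f : ℕ → ℕ) : Bool :=
  (List.range 6).all fun i => f i % 4 == addN (addN (mulN (f (pvN j 0)) (bN j 0 i)) (mulN (f (pvN j 1)) (bN j 1 i)))
    (mulN (f (pvN j 2)) (bN j 2 i)) % 4

/-- A vector from its codes. -/
def vK (f : ℕ → ℕ) : Fin 6 → K4 := fun i => toK (f i.val)

/-- The matrices. -/
def matK (n : Fin 4) : Matrix (Fin 6) (Fin 6) K4 := Matrix.of fun i j => toK (mN n i.val j.val)

theorem mvE_eq (n : Fin 4) (f : ℕ → ℕ) : matK n *ᵥ vK f = vK (mvE n f) := by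
  funext i
  simp only [Matrix.mulVec, dotProduct, matK, Matrix.of_apply, vK, Fin.sum_univ_six, mvE, toK_add, toK_mul]
  rfl

theorem unit_of_ne : ∀ x y : ZMod 2, (⟨x, y⟩ : K4) ≠ 0 → ∃ u v : ZMod 2, (⟨x, y⟩ : K4) * ⟨u, v⟩ = 1 := by
  decide +kernel

theorem gram_ok : ∀ n j k, (∑ i, matK n i j * matK n i k ^ 2) = if j = k then 1 else 0 := by
  decide +kernel

/-- The images of the planes. -/
def imgB (n : Fin 4) : Bool := (List.range 891).all fun j => (List.range 3).all fun k =>
  inPlB (lk (gTab n) j) (mvE n (bN j k))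

theorem img_ok : ∀ n, imgB n = true := by decide +kernel

theorem self_ok : ((List.range 891).all fun j => (List.range 3).all fun k => inPlB j (bN j k)) = true := by
  decide +kernel

/-- The chosen planes are determined by their bases. -/
def distB : Bool := spanPts.all fun j => (List.range 891).all fun i =>
  (i == j) || !(inPlB i (bN j 0) && inPlB i (bN j 1) && inPlB i (bN j 2))

theorem dist_ok : distB = true := by decide +kernel

/-- The span data of a coordinate. -/
def spanD (k : Fin 24) : ℤ × ℤ × List (ℕ × ℤ) := spanL.getD k.val (0, 0, [])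

theorem span_ok : ∀ (k : Fin 24) (i : GolayPt),
    (Co3Out.e8L k.val).getD (idx i).val 0 = (spanD k).1 * vecN vCode i + (spanD k).2.1 * vecN wCode i +
      ((spanD k).2.2.map fun p => p.2 * ptU p.1 i).sum := by
  decide +kernel

theorem span_lt : ∀ k : Fin 24, ∀ p ∈ (spanD k).2.2, p.1 ∈ spanPts ∧ p.1 < 891 := by decide +kernel

/-- An element fixing the chosen vectors is trivial. -/
theorem eq_one_of_fix {g : ↥Co0} (hg : g ∈ GU) (hx : ∀ j ∈ spanPts, j < 891 → ap g (ptU j) = ptU j) : g = 1 := by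
  let φ := coHom g
  have hfix : ∀ (x : ↥leechLattice), ap g (x : Vec) = x → φ x = x :=
    fun x h => Subtype.ext ((ap_coe g x).symm.trans h)
  refine Co3Out.ext_e8 fun i => ?_
  rw [ap_one]
  let E : ↥leechLattice := ⟨e8 i, e8_mem i⟩
  have key : ∀ l : List (ℕ × ℤ), (∀ p ∈ l, p.1 ∈ spanPts ∧ p.1 < 891) → ∃ S : ↥leechLattice, φ S = S ∧
      ∀ x, (S : Vec) x = (l.map fun p => p.2 * ptU p.1 x).sum := by
    intro l
    induction l with
    | nil => exact fun _ => ⟨0, map_zero φ, fun x => rfl⟩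
    | cons p l ih =>
      intro h
      obtain ⟨S, hS, hSx⟩ := ih fun q hq => h q (List.mem_cons_of_mem _ hq)
      obtain ⟨hp, hlt⟩ := h p List.mem_cons_self
      refine ⟨p.2 • ⟨ptU p.1, ptU_mem hlt⟩ + S, ?_, fun x => ?_⟩
      · rw [map_add, map_zsmul, hS, hfix ⟨_, ptU_mem hlt⟩ (hx _ hp hlt)]
      · rw [List.map_cons, List.sum_cons, AddSubgroup.coe_add, Pi.add_apply, hSx]
        rfl
  obtain ⟨S, hS, hSx⟩ := key _ (span_lt (idx i))
  have hE : E = (spanD (idx i)).1 • V0 + (spanD (idx i)).2.1 • W0 + S := by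
    apply Subtype.ext
    funext x
    simp only [AddSubgroup.coe_add, AddSubgroup.coe_zsmul, Pi.add_apply, Pi.smul_apply, smul_eq_mul, hSx]
    rw [show ((E : ↥leechLattice) : Vec) x = (Co3Out.e8L (idx i).val).getD (idx x).val 0 from
      (congrFun (Co3Out.e8L_eq i) x).symm]
    exact span_ok (idx i) x
  have hE' : φ E = E := by
    rw [hE, map_add, map_add, map_zsmul, map_zsmul, hS, hfix V0 (mem_GU.1 hg).1, hfix W0 (mem_GU.1 hg).2]
  exact (ap_coe g E).trans (congrArg Subtype.val hE')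

variable {F : Type} [Field F]

/-- Membership in a plane, over the field. -/
def InPl (e : K4 →+* F) (j : ℕ) (w : Fin 6 → F) : Prop :=
  ∀ i, w i = w (pv j 0) * e (toK (bN j 0 i.val)) + w (pv j 1) * e (toK (bN j 1 i.val)) +
    w (pv j 2) * e (toK (bN j 2 i.val))

theorem inPlB_toK {j : ℕ} {f : ℕ → ℕ} (h : inPlB j f = true) (i : Fin 6) :
    toK (f i.val) = toK (f (pvN j 0)) * toK (bN j 0 i.val) + toK (f (pvN j 1)) * toK (bN j 1 i.val) +
      toK (f (pvN j 2)) * toK (bN j 2 i.val) := by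
  simp only [inPlB, List.all_eq_true, List.mem_range, beq_iff_eq] at h
  rw [← toK_mod, h i.val i.isLt, toK_mod, toK_add, toK_add, toK_mul, toK_mul, toK_mul]

theorem InPl.of_K {e : K4 →+* F} {j : ℕ} {f : ℕ → ℕ} (h : inPlB j f = true) :
    InPl e j fun i => e (vK f i) := fun i => by
  simp only [vK, pv, inPlB_toK h i, map_add, map_mul]

theorem InPl.comb {e : K4 →+* F} {j : ℕ} {u v w : Fin 6 → F} (hu : InPl e j u) (hv : InPl e j v)
    (hw : InPl e j w) (a b c : F) : InPl e j (a • u + b • v + c • w) := fun i => by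
  simp only [Pi.add_apply, Pi.smul_apply, smul_eq_mul]
  linear_combination a * hu i + b * hv i + c * hw i

/-- The matrix moves the planes as the element moves the vectors. -/
def Compat (e : K4 →+* F) (g : ↥Co0) (A : Matrix (Fin 6) (Fin 6) F) : Prop :=
  ∃ σ : ℕ → ℕ, ∀ j < 891, σ j < 891 ∧ ap g (ptU j) = ptU (σ j) ∧
    ∀ k < 3, InPl e (σ j) (A *ᵥ fun i => e (vK (bN j k) i))

theorem Compat.one (e : K4 →+* F) : Compat e 1 1 := ⟨id, fun j hj => ⟨hj, ap_one _, fun k hk => by
  rw [Matrix.one_mulVec]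
  have h := self_ok
  simp only [List.all_eq_true, List.mem_range] at h
  exact InPl.of_K (h j hj k hk)⟩⟩

theorem Compat.mul {e : K4 →+* F} {g h : ↥Co0} {A B : Matrix (Fin 6) (Fin 6) F} (hg : Compat e g A)
    (hh : Compat e h B) : Compat e (g * h) (A * B) := by
  obtain ⟨σ, hσ⟩ := hg
  obtain ⟨τ, hτ⟩ := hh
  refine ⟨fun j => σ (τ j), fun j hj => ?_⟩
  obtain ⟨t0, t1, t2⟩ := hτ j hj
  obtain ⟨s0, s1, s2⟩ := hσ (τ j) t0
  refine ⟨s0, by rw [ap_mul _ _ (ptU_mem hj), t1, s1], fun k hk => ?_⟩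
  rw [← Matrix.mulVec_mulVec]
  generalize hv : B *ᵥ (fun i => e (vK (bN j k) i)) = v
  have hvp : InPl e (τ j) v := hv ▸ t2 k hk
  have e1 : v = v (pv (τ j) 0) • (fun i => e (vK (bN (τ j) 0) i)) +
      v (pv (τ j) 1) • (fun i => e (vK (bN (τ j) 1) i)) +
      v (pv (τ j) 2) • (fun i => e (vK (bN (τ j) 2) i)) := funext fun i => hvp i
  rw [e1, Matrix.mulVec_add, Matrix.mulVec_add, Matrix.mulVec_smul, Matrix.mulVec_smul, Matrix.mulVec_smul]
  exact (s2 0 (by norm_num)).comb (s2 1 (by norm_num)) (s2 2 (by norm_num)) _ _ _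

theorem exists_hom (F : Type) [Field F] [Fintype F] (hF : Fintype.card F = 4) :
    ∃ e : K4 →+* F, Function.Injective e ∧ ∀ x y : F, (x + y) ^ 2 = x ^ 2 + y ^ 2 := by
  classical
  have h2 : ringChar F = 2 := by
    obtain ⟨n, hp, hn⟩ := FiniteField.card F (ringChar F)
    rw [hF] at hn
    have hdvd : ringChar F ∣ 4 := hn ▸ dvd_pow_self _ n.pos.ne'
    exact (Nat.prime_dvd_prime_iff_eq hp Nat.prime_two).1
      (hp.dvd_of_dvd_pow (show ringChar F ∣ 2 ^ 2 from hdvd))
  have : CharP F 2 := h2 ▸ ringChar.charP F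
  have : Fact (Nat.Prime 2) := ⟨Nat.prime_two⟩
  have : ExpChar F 2 := ExpChar.prime Nat.prime_two
  let _ : Algebra (ZMod 2) F := ZMod.algebra F 2
  obtain ⟨u, hu0, hu1⟩ : ∃ u : F, u ≠ 0 ∧ u ≠ 1 := by
    by_contra hcon
    push_neg at hcon
    have hsub : (Finset.univ : Finset F) ⊆ {0, 1} := fun x _ => by
      rcases em (x = 0) with h | h
      · simp [h]
      · simp [hcon x h]
    have := (Finset.card_le_card hsub).trans Finset.card_le_two
    rw [Finset.card_univ, hF] at this
    omega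
  have hu3 : u ^ 3 = 1 := by
    have := FiniteField.pow_card_sub_one_eq_one u hu0
    rwa [hF] at this
  have hq : u ^ 2 + u + 1 = 0 := by
    have : (u - 1) * (u ^ 2 + u + 1) = 0 := by linear_combination hu3
    exact (mul_eq_zero.1 this).resolve_left (sub_ne_zero.2 hu1)
  have h20 : (2 : F) = 0 := by exact_mod_cast CharP.cast_eq_zero F 2
  let e : K4 →ₐ[ZMod 2] F := QuadraticAlgebra.lift ⟨u, by
    rw [one_smul, one_smul]
    linear_combination hq - (u + 1) * h20⟩
  refine ⟨e.toRingHom, (injective_iff_map_eq_zero _).2 fun x hx => ?_, fun x y => add_pow_char x y 2⟩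
  by_contra hne
  obtain ⟨a, b, h⟩ := unit_of_ne x.re x.im hne
  have := congrArg e.toRingHom h
  rw [map_mul, show e.toRingHom ⟨x.re, x.im⟩ = 0 from hx, zero_mul, map_one] at this
  exact zero_ne_one this

theorem mem_SU_of_gram {M : Matrix.SpecialLinearGroup (Fin 6) F}
    (hadd : ∀ x y : F, (x + y) ^ 2 = x ^ 2 + y ^ 2)
    (h : ∀ j k, (∑ i, M.1 i j * M.1 i k ^ 2) = if j = k then 1 else 0) : M ∈ SU 6 F 2 := by
  intro u v
  show hermForm 6 F 2 (M.1 *ᵥ u) (M.1 *ᵥ v) = _
  have hsum : ∀ f : Fin 6 → F, (∑ i, f i) ^ 2 = ∑ i, f i ^ 2 := fun f => by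
    simp only [Fin.sum_univ_six, hadd]
  simp only [hermForm, Matrix.mulVec, dotProduct, hsum, Finset.sum_mul_sum, mul_pow]
  calc ∑ i, ∑ j, ∑ k, M.1 i j * u j * (M.1 i k ^ 2 * v k ^ 2)
      = ∑ j, ∑ k, u j * v k ^ 2 * ∑ i, M.1 i j * M.1 i k ^ 2 := by
        rw [Finset.sum_comm]
        refine Finset.sum_congr rfl fun j _ => ?_
        rw [Finset.sum_comm]
        refine Finset.sum_congr rfl fun k _ => ?_
        rw [Finset.mul_sum]
        exact Finset.sum_congr rfl fun i _ => by ring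
    _ = ∑ j, u j * v j ^ 2 := by simp [h]

theorem det_ok : ∀ n, (matK n).det = 1 := by decide +kernel

theorem card_psu (F : Type) [Field F] [Fintype F] (hF : Fintype.card F = 4) :
    Nat.card (PSU 6 F 2) = 9196830720 := by
  have h := UnitaryOrder.card_PSU (q := 2) (hF.trans (by norm_num)) 6 (by norm_num)
  rw [UnitaryOrder.card_GU (hF.trans (by norm_num))] at h
  norm_num [Finset.prod_range_succ, Nat.even_iff] at h
  omega

/-- The stabiliser is the projective special unitary group. -/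
theorem GU_iso (F : Type) [Field F] [Fintype F] (hF : Fintype.card F = 4) :
    Nonempty (↥GU ≃* PSU 6 F 2) := by
  classical
  obtain ⟨e, hinj, hadd⟩ := exists_hom F hF
  have : AutPSU.QField F 2 := AutPSU.QField.of_card (hF.trans (by norm_num))
  let S : Fin 4 → ↥(SU 6 F 2) := fun n => ⟨⟨(matK n).map e, by
      rw [← RingHom.mapMatrix_apply, ← RingHom.map_det, det_ok, map_one]⟩,
    mem_SU_of_gram hadd fun j k => by
      show (∑ i, e (matK n i j) * e (matK n i k) ^ 2) = _
      simp only [← map_pow, ← map_mul, ← map_sum, gram_ok]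
      split <;> simp⟩
  let Hn : Fin 4 → ↥GU := fun n => ⟨gEl n, gEl_mem n⟩
  let Gam : Subgroup (↥GU × ↥(SU 6 F 2)) := Subgroup.closure (Set.range fun n => (Hn n, S n))
  have hgen : ∀ n, Compat e (gEl n) ((matK n).map e) := fun n => ⟨lk (gTab n), fun j hj => by
    obtain ⟨h1, h2⟩ := acts_gEl n j hj
    refine ⟨h1, h2, fun k hk => ?_⟩
    have h := img_ok n
    simp only [imgB, List.all_eq_true, List.mem_range] at h
    rw [show ((matK n).map e *ᵥ fun i => e (vK (bN j k) i)) = fun i => e ((matK n *ᵥ vK (bN j k)) i) from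
      funext fun i => (RingHom.map_mulVec e (matK n) _ i).symm, mvE_eq]
    exact InPl.of_K (h j hj k hk)⟩
  have hcompat : ∀ x ∈ Gam, Compat e (x.1 : ↥Co0) x.2.1.1 := by
    have hpow : ∀ x : ↥GU × ↥(SU 6 F 2), Compat e (x.1 : ↥Co0) x.2.1.1 → ∀ m : ℕ,
        Compat e ((x ^ m).1 : ↥Co0) (x ^ m).2.1.1 := by
      intro x hx m
      induction m with
      | zero => simpa using Compat.one e
      | succ m ih => rw [pow_succ]; exact ih.mul hx
    intro x hx
    induction hx using Subgroup.closure_induction with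
    | mem x hx => obtain ⟨n, rfl⟩ := hx; exact hgen n
    | one => exact Compat.one e
    | mul x y _ _ hx hy => exact hx.mul hy
    | inv x _ hx =>
      have h2 : x⁻¹ = x ^ (orderOf x - 1) := by
        refine (eq_inv_of_mul_eq_one_left ?_).symm
        rw [← pow_succ, Nat.sub_add_cancel (orderOf_pos x), pow_orderOf_eq_one]
      rw [h2]
      exact hpow x hx _
  let pr : ↥GU × ↥(SU 6 F 2) →* ↥GU × PSU 6 F 2 :=
    (MonoidHom.id _).prodMap (QuotientGroup.mk' (Subgroup.center (SU 6 F 2)))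
  let P := Gam.map pr
  let f1 : ↥P →* ↥GU := (MonoidHom.fst _ _).comp P.subtype
  let f2 : ↥P →* PSU 6 F 2 := (MonoidHom.snd _ _).comp P.subtype
  have hs1 : Function.Surjective f1 := by
    rw [← MonoidHom.range_eq_top]
    apply Subgroup.map_injective GU.subtype_injective
    rw [← MonoidHom.range_eq_map GU.subtype, Subgroup.range_subtype]
    refine le_antisymm (Subgroup.map_subtype_le _) ?_
    conv_lhs => rw [← HU_eq.1, HU]
    rw [Subgroup.closure_le]
    rintro g ⟨n, rfl⟩
    exact ⟨Hn n, ⟨⟨pr (Hn n, S n), Subgroup.mem_map_of_mem pr (Subgroup.subset_closure ⟨n, rfl⟩)⟩, rfl⟩, rfl⟩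
  have hi2 : Function.Injective f2 := (injective_iff_map_eq_one f2).2 fun x hx => by
    obtain ⟨⟨g, s⟩, hgam, hgs⟩ := Subgroup.mem_map.1 x.2
    have hz : s ∈ Subgroup.center (SU 6 F 2) := by
      rw [← QuotientGroup.eq_one_iff]
      have h' : QuotientGroup.mk' (Subgroup.center (SU 6 F 2)) s = x.1.2 := congrArg Prod.snd hgs
      rw [show x.1.2 = 1 from hx] at h'
      exact h'
    obtain ⟨c, hc⟩ := AutPSU.scalar_of_mem_center (q := 2) (by norm_num) hz
    obtain ⟨σ, hσ⟩ := hcompat _ hgam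
    have hc0 : c ≠ 0 := by
      intro h0
      have hd : s.1.1.det = 1 := s.1.2
      have hzero : s.1.1 = 0 := Matrix.ext_of_mulVec_single fun i => by
        have := hc (Pi.single i 1)
        rw [h0, zero_smul] at this
        rw [Matrix.zero_mulVec]; exact this
      rw [hzero, Matrix.det_zero] at hd
      exact zero_ne_one hd
    have hg1 : g = 1 := Subtype.ext (eq_one_of_fix g.2 fun j hjs hj => by
      obtain ⟨h0, h1, h2⟩ := hσ j hj
      have down : ∀ k < 3, inPlB (σ j) (bN j k) = true := by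
        intro k hk
        simp only [inPlB, List.all_eq_true, List.mem_range, beq_iff_eq]
        intro i hi
        apply toK_inj
        apply hinj
        have := h2 k hk ⟨i, hi⟩
        rw [show s.1.1 *ᵥ (fun i => e (vK (bN j k) i)) = c • fun i => e (vK (bN j k) i) from hc _] at this
        simp only [Pi.smul_apply, smul_eq_mul, mul_assoc, ← mul_add, vK, pv] at this
        rw [toK_add, toK_add, toK_mul, toK_mul, toK_mul, map_add, map_add, map_mul, map_mul, map_mul]
        exact mul_left_cancel₀ hc0 this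
      have hd := dist_ok
      simp only [distB, List.all_eq_true, List.mem_range, Bool.or_eq_true, beq_iff_eq, Bool.not_eq_true',
        Bool.and_eq_false_iff] at hd
      have e0 : σ j = j := by
        rcases hd j hjs (σ j) h0 with h | h
        · exact h
        · simp [down 0 (by norm_num), down 1 (by norm_num), down 2 (by norm_num)] at h
      rw [h1, e0])
    refine Subtype.ext (Prod.ext ?_ hx)
    rw [← hgs]
    show g = 1
    exact hg1
  have hcard := HU_eq.2
  have hcardPSU := card_psu F hF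
  have : Finite (PSU 6 F 2) := Nat.finite_of_card_ne_zero (by rw [hcardPSU]; norm_num)
  have c1 := Nat.card_le_card_of_surjective f1 hs1
  have c2 := Nat.card_le_card_of_injective f2 hi2
  have hb1 : Function.Bijective f1 := (Nat.bijective_iff_surjective_and_card f1).2 ⟨hs1, by omega⟩
  have hb2 : Function.Bijective f2 := (Nat.bijective_iff_injective_and_card f2).2 ⟨hi2, by omega⟩
  exact ⟨(MulEquiv.ofBijective f1 hb1).symm.trans (MulEquiv.ofBijective f2 hb2)⟩

end

end Cfsg.Agent.LeechCount.U6
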